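import Cfsg.Agent.OrdDiv.Main
import Cfsg.Agent.H352.Frob313Fam
import Cfsg.Agent.H352.Three13
import Cfsg.Agent.H261.ExcThree
import Cfsg.Agent.H261.ExcThreeTw
import Cfsg.Agent.H261.ExcThreeE78

/-!
# The elimination for `L₄(3)` (helper352)
-/

set_option autoImplicit false

namespace Cfsg.Agent.H352.Elim

open Cfsg Cfsg.Agent.OrdDiv Cfsg.Agent.H352.Frob313

universe u

/-- the facts used in the elimination -/
structure El (X : Type*) [Group X] : Prop where
  act : Act 13 X
  h7 : ¬ 3 ^ 7 ∣ Nat.card X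
  hP : 151632 ∣ Nat.card X
  z : ∃ z : X, z ^ 3 = 1 ∧ z ≠ 1 ∧ Nat.card ↥(Subgroup.centralizer ({z} : Set X)) = 5832
  uniq : ∀ x : X, x ^ 3 = 1 → x ≠ 1 → 3 ^ 6 ∣ Nat.card ↥(Subgroup.centralizer ({x} : Set X)) →
    Nat.card ↥(Subgroup.centralizer ({x} : Set X)) = 5832
  cen : ∀ U : Subgroup X, Nat.card ↥U = 729 → Nat.card ↥(U ⊓ Subgroup.centralizer (U : Set X)) ≤ 3

theorem card_centralizer_congr {X Y : Type*} [Group X] [Group Y] (e : X ≃* Y) (x : X) :
    Nat.card ↥(Subgroup.centralizer ({e x} : Set Y)) = Nat.card ↥(Subgroup.centralizer ({x} : Set X)) := by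
  have h : (Subgroup.centralizer ({x} : Set X)).map e.toMonoidHom = Subgroup.centralizer ({e x} : Set Y) := by
    ext y
    rw [Subgroup.mem_map, Subgroup.mem_centralizer_singleton_iff]
    constructor
    · rintro ⟨a, ha, rfl⟩
      rw [Subgroup.mem_centralizer_singleton_iff] at ha
      show e a * e x = e x * e a
      rw [← map_mul, ha, map_mul]
    · intro hy
      refine ⟨e.symm y, ?_, by simp⟩
      rw [Subgroup.mem_centralizer_singleton_iff]
      apply e.injective
      simpa using hy
  rw [← h]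
  exact (Nat.card_congr ((Subgroup.centralizer ({x} : Set X)).equivMapOfInjective e.toMonoidHom e.injective).toEquiv).symm

theorem El.congr {X Y : Type*} [Group X] [Group Y] (e : X ≃* Y) (h : El X) : El Y where
  act := h.act.congr e
  h7 := by rw [← Nat.card_congr e.toEquiv]; exact h.h7
  hP := by rw [← Nat.card_congr e.toEquiv]; exact h.hP
  z := by
    obtain ⟨z, h1, h2, h3⟩ := h.z
    refine ⟨e z, by rw [← map_pow, h1, map_one], ?_, ?_⟩
    · intro h4; exact h2 (e.injective (by rw [h4, map_one]))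
    · rw [card_centralizer_congr, h3]
  uniq := by
    intro x hx hx1 hd
    obtain ⟨x, rfl⟩ := e.surjective x
    rw [card_centralizer_congr] at hd ⊢
    apply h.uniq x _ _ hd
    · apply e.injective; rw [map_pow, hx, map_one]
    · rintro rfl; exact hx1 (map_one e)
  cen := by
    intro U hU
    have h1 := h.cen (U.map e.symm.toMonoidHom) (by
      rw [← hU]
      exact (Nat.card_congr (U.equivMapOfInjective e.symm.toMonoidHom e.symm.injective).toEquiv).symm)
    refine le_trans (le_of_eq ?_) h1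
    have h2 : (U ⊓ Subgroup.centralizer (U : Set Y)).map e.symm.toMonoidHom =
        U.map e.symm.toMonoidHom ⊓ Subgroup.centralizer ((U.map e.symm.toMonoidHom : Subgroup X) : Set X) := by
      ext x
      constructor
      · rintro ⟨y, ⟨hy1, hy2⟩, rfl⟩
        refine ⟨⟨y, hy1, rfl⟩, Subgroup.mem_centralizer_iff.2 ?_⟩
        rintro _ ⟨u, hu, rfl⟩
        show e.symm u * e.symm y = e.symm y * e.symm u
        rw [← map_mul, Subgroup.mem_centralizer_iff.1 hy2 u hu, map_mul]
      · rintro ⟨⟨y, hy1, rfl⟩, hy2⟩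
        refine ⟨y, ⟨hy1, Subgroup.mem_centralizer_iff.2 ?_⟩, rfl⟩
        intro u hu
        have := Subgroup.mem_centralizer_iff.1 hy2 (e.symm u) ⟨u, hu, rfl⟩
        apply e.symm.injective
        rw [map_mul, map_mul]; exact this
    rw [← h2]
    exact Nat.card_congr ((U ⊓ Subgroup.centralizer (U : Set Y)).equivMapOfInjective e.symm.toMonoidHom
      e.symm.injective).toEquiv

/-- the condition on the order -/
def P (c : ℕ) : Bool := (c % 151632 == 0) && (c % 2187 != 0)

theorem El.P {X : Type*} [Group X] (h : El X) : P (Nat.card X) = true := by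
  unfold Elim.P
  rw [Bool.and_eq_true]
  refine ⟨by simpa using Nat.mod_eq_zero_of_dvd h.hP, ?_⟩
  have := h.h7
  norm_num at this
  simpa [Nat.dvd_iff_mod_eq_zero] using this

/-- candidates in characteristic 3 -/
def candT (D : Fam) : List (ℕ × ℕ) :=
  (box [(3, 6)] D.e D.lo).filter fun x => D.ok x.1 x.2 && P (D.num x.1 x.2 / D.den x.1 x.2)

theorem mem_candT (D : Fam) {n q c : ℕ} (hq : IsPrimePow q) (hqe : 3 ∣ q)
    (hlo : D.lo ≤ n) (hn : n ≤ D.e n + 1) (he1 : 1 ≤ D.e n) (hok : D.ok n q = true)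
    (hc : D.den n q * c = D.num n q) (hpow : q ^ D.e n ∣ D.num n q) (hcop : (D.den n q).Coprime q)
    (h7 : ¬ 3 ^ 7 ∣ c) (hP : P c = true) : (n, q) ∈ candT D := by
  unfold candT
  rw [List.mem_filter]
  obtain ⟨p, f, hp, hf, rfl⟩ := (isPrimePow_nat_iff q).1 hq
  have hp3 : p = 3 := ((Nat.prime_dvd_prime_iff_eq Nat.prime_three hp).1 (Nat.prime_three.dvd_of_dvd_pow hqe)).symm
  subst hp3
  constructor
  · have h1 : (3 ^ f) ^ D.e n ∣ c := by
      rw [← hc] at hpow
      exact Nat.Coprime.dvd_of_dvd_mul_left (Nat.Coprime.pow_left _ hcop.symm) hpow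
    rw [← pow_mul] at h1
    refine mem_box (List.mem_singleton.2 rfl) hf hlo hn he1 ?_
    by_contra hlt
    push Not at hlt
    apply h7
    exact (pow_dvd_pow 3 (by rw [mul_comm] at hlt; omega)).trans h1
  · rw [Bool.and_eq_true]
    refine ⟨hok, ?_⟩
    rw [← div_eq hq hcop hc]
    exact hP

theorem three_ne {F : Type*} [Field F] [Fintype F] (h : ¬ 3 ∣ Fintype.card F) : (3 : F) ≠ 0 := by
  intro h3
  apply h
  obtain ⟨p, hp⟩ := CharP.exists F
  have hpp : p.Prime := (CharP.char_is_prime_or_zero F p).resolve_right (by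
    intro h0
    subst h0
    have := CharP.charP_to_charZero F
    exact not_finite F)
  obtain ⟨n, hn⟩ := FiniteField.card F p
  have h1 : p ∣ 3 := (CharP.cast_eq_zero_iff F p 3).1 (by exact_mod_cast h3)
  have h2 : p = 3 := (Nat.prime_dvd_prime_iff_eq hpp Nat.prime_three).1 h1
  rw [hn.2, h2]
  exact dvd_pow_self 3 n.ne_zero

theorem three_ne_of_pow {F : Type*} [Field F] [Fintype F] {q k : ℕ} (hF : Fintype.card F = q ^ k) (h : ¬ 3 ∣ q) :
    (3 : F) ≠ 0 := three_ne (by rw [hF]; exact fun h1 => h (Nat.prime_three.dvd_of_dvd_pow h1))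

/-! ### the classical families -/

section

variable {X : Type*} [Group X]

theorem psl_case {F : Type} [Field F] [Fintype F] {n : ℕ} (hn : 2 ≤ n) (hn2 : n = 2 → 4 ≤ Fintype.card F)
    (h : El X) (e : X ≃* Matrix.ProjectiveSpecialLinearGroup (Fin n) F) : (n, Fintype.card F) ∈ candT fPSL := by
  have hP := h.P
  have h38 := h.h7
  have hcX : Nat.card X = Nat.card (Matrix.ProjectiveSpecialLinearGroup (Fin n) F) := Nat.card_congr e.toEquiv
  by_cases ho : 3 ∣ Fintype.card F
  swap
  · exfalso
    have h1 := psl (by norm_num) (three_ne ho) h.act e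
    have h2 := Three13.psl ho Fintype.one_lt_card h1 (S0243.result (F := F) rfl n hn)
    rw [← hcX] at h2
    exact h38 ((pow_dvd_pow 3 (by norm_num)).trans h2)
  rw [hcX] at h38 hP
  have hq : 1 < Fintype.card F := Fintype.one_lt_card
  have hc : fPSL.den n (Fintype.card F) * Nat.card (Matrix.ProjectiveSpecialLinearGroup (Fin n) F) =
      fPSL.num n (Fintype.card F) := by
    have h := S0243.result (F := F) rfl n hn
    rw [Fin.prod_univ_eq_prod_range (fun i => Fintype.card F ^ n - Fintype.card F ^ i) n, ← prod_list] at h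
    change Nat.gcd n (Fintype.card F - 1) * (Fintype.card F - 1) * _ = glN n (Fintype.card F)
    rw [mul_assoc]
    exact h
  refine mem_candT fPSL Fintype.isPrimePow_card_of_field ho hn (le_tri hn).1 (le_tri hn).2 ?_ hc
    (pow_dvd_glN n _) ?_ h38 hP
  · change (!(Nat.beq n 2 && Nat.blt (Fintype.card F) 4)) = true
    by_cases h2 : n = 2
    · have h4 := hn2 h2
      have : Nat.blt (Fintype.card F) 4 = false := by
        rw [← Bool.not_eq_true, Nat.blt_eq]
        omega
      rw [this, Bool.and_false]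
      rfl
    · have : Nat.beq n 2 = false := by
        rw [← Bool.not_eq_true, Nat.beq_eq]
        exact h2
      rw [this, Bool.false_and]
      rfl
  · change (Nat.gcd n (Fintype.card F - 1) * (Fintype.card F - 1)).Coprime (Fintype.card F)
    have h1 := cop_sub (q := Fintype.card F) (k := 1) (by omega) le_rfl
    rw [pow_one] at h1
    exact Nat.Coprime.mul_left (Nat.Coprime.coprime_dvd_left (Nat.gcd_dvd_right _ _) h1) h1

theorem psp_case {F : Type} [Field F] [Fintype F] {m : ℕ} (hm : 2 ≤ m) (hm2 : m = 2 → 3 ≤ Fintype.card F)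
    (h : El X) (e : X ≃* PSp m F) : (m, Fintype.card F) ∈ candT fPSp := by
  have hP := h.P
  have h38 := h.h7
  have hcX : Nat.card X = Nat.card (PSp m F) := Nat.card_congr e.toEquiv
  have hq : 1 < Fintype.card F := Fintype.one_lt_card
  have hc : fPSp.den m (Fintype.card F) * Nat.card (PSp m F) = fPSp.num m (Fintype.card F) := by
    have h1 := S0245.result (F := F) rfl m
    have h2 := S0246.result (F := F) rfl m (by omega)
    have h3 := Subgroup.card_eq_card_quotient_mul_card_subgroup
      (Subgroup.center (Matrix.symplecticGroup (Fin m) F))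
    rw [← prod_list (fun i => Fintype.card F ^ (2 * (i + 1)) - 1)] at h1
    rw [h1, h2] at h3
    change Nat.gcd 2 (Fintype.card F - 1) * Nat.card (PSp m F) = Fintype.card F ^ (m ^ 2) * prB (Fintype.card F) m
    rw [mul_comm]
    exact h3.symm
  by_cases ho : 3 ∣ Fintype.card F
  swap
  · exfalso
    have h1 := psp (by norm_num) (three_ne ho) h.act e
    have h2 : 3 ^ 8 ∣ Nat.card (PSp m F) := by
      refine Three13.half (Nat.gcd_dvd_left 2 (Fintype.card F - 1)) ?_ hc
      change 3 ^ 8 ∣ Fintype.card F ^ (m ^ 2) * prB (Fintype.card F) m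
      unfold prB
      rw [prod_list]
      exact (Three13.prB6 ho (by omega)).trans (Dvd.intro_left _ rfl)
    rw [← hcX] at h2
    exact h38 ((pow_dvd_pow 3 (by norm_num)).trans h2)
  rw [hcX] at h38 hP
  have hmm : m ≤ m ^ 2 := by nlinarith
  refine mem_candT fPSp Fintype.isPrimePow_card_of_field ho hm (hmm.trans (Nat.le_succ _))
    (Nat.one_le_pow _ _ (by omega)) ?_ hc (Dvd.intro _ rfl) ?_ h38 hP
  · change (!(Nat.beq m 2 && Nat.blt (Fintype.card F) 3)) = true
    by_cases h2 : m = 2
    · have h4 := hm2 h2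
      have : Nat.blt (Fintype.card F) 3 = false := by
        rw [← Bool.not_eq_true, Nat.blt_eq]
        omega
      rw [this, Bool.and_false]
      rfl
    · have : Nat.beq m 2 = false := by
        rw [← Bool.not_eq_true, Nat.beq_eq]
        exact h2
      rw [this, Bool.false_and]
      rfl
  · change (Nat.gcd 2 (Fintype.card F - 1)).Coprime (Fintype.card F)
    have h1 := cop_sub (q := Fintype.card F) (k := 1) (by omega) le_rfl
    rw [pow_one] at h1
    exact Nat.Coprime.coprime_dvd_left (Nat.gcd_dvd_right _ _) h1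

theorem psu_case {F : Type} [Field F] [Fintype F] {n q : ℕ} (hF : Fintype.card F = q ^ 2) (hn : 3 ≤ n)
    (hn2 : ¬ (n = 3 ∧ q = 2)) (h : El X) (e : X ≃* PSU n F q) : (n, q) ∈ candT fPSU := by
  have hP := h.P
  have h38 := h.h7
  have hcX : Nat.card X = Nat.card (PSU n F q) := Nat.card_congr e.toEquiv
  have hq2 : IsPrimePow (q ^ 2) := hF ▸ Fintype.isPrimePow_card_of_field
  have hqp : IsPrimePow q := (isPrimePow_pow_iff (by norm_num)).1 hq2
  by_cases ho : 3 ∣ q
  swap
  · exfalso
    have h1 := psu (by norm_num) (three_ne_of_pow hF ho) h.act e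
    have h2 := Three13.psu ho h1 (S0280.result hF n (by omega))
    rw [← hcX] at h2
    exact h38 ((pow_dvd_pow 3 (by norm_num)).trans h2)
  rw [hcX] at h38 hP
  have hc : fPSU.den n q * Nat.card (PSU n F q) = fPSU.num n q := by
    have h := S0280.result hF n (by omega)
    rw [← prod_list] at h
    change Nat.gcd n (q + 1) * (q + 1) * _ = q ^ (n * (n - 1) / 2) * prU q n
    have h2 : prU q n = ((List.range n).map fun i => if Even i then q ^ (i + 1) + 1 else q ^ (i + 1) - 1).prod := by
      unfold prU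
      congr 1
      apply List.map_congr_left
      intro i _
      by_cases h : Even i
      · rw [if_pos h, if_pos]
        rw [Nat.beq_eq]
        exact Nat.even_iff.1 h
      · rw [if_neg h, if_neg]
        rw [Nat.beq_eq, ← Nat.even_iff]
        exact h
    rw [h2, mul_assoc]
    exact h
  refine mem_candT fPSU hqp ho hn (le_tri (by omega)).1 (le_tri (by omega)).2 ?_ hc (Dvd.intro _ rfl) ?_ h38 hP
  · change (!(Nat.beq n 3 && Nat.beq q 2)) = true
    by_cases h2 : n = 3
    · have h4 : q ≠ 2 := fun h => hn2 ⟨h2, h⟩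
      have : Nat.beq q 2 = false := by
        rw [← Bool.not_eq_true, Nat.beq_eq]
        exact h4
      rw [this, Bool.and_false]
      rfl
    · have : Nat.beq n 3 = false := by
        rw [← Bool.not_eq_true, Nat.beq_eq]
        exact h2
      rw [this, Bool.false_and]
      rfl
  · change (Nat.gcd n (q + 1) * (q + 1)).Coprime q
    have h1 := cop_add (q := q) (k := 1) le_rfl
    rw [pow_one] at h1
    exact Nat.Coprime.mul_left (Nat.Coprime.coprime_dvd_left (Nat.gcd_dvd_right _ _) h1) h1

theorem oodd_case {F : Type} [Field F] [Fintype F] {m : ℕ} (hm : 3 ≤ m) (ho2 : Odd (Fintype.card F))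
    (h : El X) (e : X ≃* POmega F (quadFormOdd m F)) : False := by
  have h38 := h.h7
  have hcX : Nat.card X = Nat.card (POmega F (quadFormOdd m F)) := Nat.card_congr e.toEquiv
  have hc := S0292.result (F := F) rfl ho2 m hm
  by_cases ho : 3 ∣ Fintype.card F
  · apply h38
    rw [hcX]
    have h1 : 3 ^ 7 ∣ 2 * Nat.card (POmega F (quadFormOdd m F)) := by
      rw [hc]
      refine Dvd.dvd.mul_right ?_ _
      calc 3 ^ 7 ∣ (Fintype.card F) ^ 7 := pow_dvd_pow_of_dvd ho 7
        _ ∣ Fintype.card F ^ (m ^ 2) := pow_dvd_pow _ (by nlinarith)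
    exact Nat.Coprime.dvd_of_dvd_mul_left (by norm_num) h1
  · have h1 := oodd (by norm_num) (three_ne ho) h.act e
    have h2 : 3 ^ 8 ∣ Nat.card (POmega F (quadFormOdd m F)) := by
      refine Three13.half dvd_rfl ?_ hc
      exact (Three13.prB6 ho (by omega)).trans (Dvd.intro_left _ rfl)
    rw [← hcX] at h2
    exact h38 ((pow_dvd_pow 3 (by norm_num)).trans h2)

theorem oplus_case {F : Type} [Field F] [Fintype F] {m : ℕ} (hm : 4 ≤ m)
    (h : El X) (e : X ≃* POmega F (quadFormPlus m F)) : False := by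
  have h38 := h.h7
  have hcX : Nat.card X = Nat.card (POmega F (quadFormPlus m F)) := Nat.card_congr e.toEquiv
  have hq : 1 < Fintype.card F := Fintype.one_lt_card
  have hc := S0293.result (F := F) rfl m hm
  by_cases ho : 3 ∣ Fintype.card F
  · apply h38
    rw [hcX]
    have h1 : 3 ^ 7 ∣ Nat.gcd 4 (Fintype.card F ^ m - 1) * Nat.card (POmega F (quadFormPlus m F)) := by
      rw [hc]
      refine Dvd.dvd.mul_right (Dvd.dvd.mul_right ?_ _) _
      calc 3 ^ 7 ∣ (Fintype.card F) ^ 7 := pow_dvd_pow_of_dvd ho 7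
        _ ∣ Fintype.card F ^ (m * (m - 1)) := pow_dvd_pow _ (by
          have : 4 * 3 ≤ m * (m - 1) := Nat.mul_le_mul hm (by omega)
          omega)
    exact Nat.Coprime.dvd_of_dvd_mul_left (Nat.Coprime.coprime_dvd_right (Nat.gcd_dvd_left _ _) (by norm_num)) h1
  · have h1 := oplus (by norm_num) (three_ne ho) h.act e
    have h2 := Three13.orth ho (by omega) (Nat.gcd_pos_of_pos_left _ (by norm_num)) (Nat.gcd_dvd_right _ _) hc
    rw [← hcX] at h2
    exact h38 ((pow_dvd_pow 3 (by norm_num)).trans h2)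

theorem ominus_case {F : Type} [Field F] [Fintype F] {m : ℕ} (hm : 4 ≤ m) {a b : F}
    (hab : ∀ z₁ z₂ : F, z₁ ^ 2 + a * z₁ * z₂ + b * z₂ ^ 2 = 0 → z₁ = 0 ∧ z₂ = 0)
    (h : El X) (e : X ≃* POmega F (quadFormMinus (m - 1) F a b)) : False := by
  have h38 := h.h7
  have hcX : Nat.card X = Nat.card (POmega F (quadFormMinus (m - 1) F a b)) := Nat.card_congr e.toEquiv
  have hc := S0294.result (F := F) rfl m hm a b hab
  by_cases ho : 3 ∣ Fintype.card F
  · apply h38
    rw [hcX]
    have h1 : 3 ^ 7 ∣ Nat.gcd 4 (Fintype.card F ^ m + 1) * Nat.card (POmega F (quadFormMinus (m - 1) F a b)) := by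
      rw [hc]
      refine Dvd.dvd.mul_right (Dvd.dvd.mul_right ?_ _) _
      calc 3 ^ 7 ∣ (Fintype.card F) ^ 7 := pow_dvd_pow_of_dvd ho 7
        _ ∣ Fintype.card F ^ (m * (m - 1)) := pow_dvd_pow _ (by
          have : 4 * 3 ≤ m * (m - 1) := Nat.mul_le_mul hm (by omega)
          omega)
    exact Nat.Coprime.dvd_of_dvd_mul_left (Nat.Coprime.coprime_dvd_right (Nat.gcd_dvd_left _ _) (by norm_num)) h1
  · have h1 := ominus (by norm_num) (three_ne ho) h.act e
    have h2 := Three13.orth ho (by omega) (Nat.gcd_pos_of_pos_left _ (by norm_num)) (Nat.gcd_dvd_right _ _) hc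
    rw [← hcX] at h2
    exact h38 ((pow_dvd_pow 3 (by norm_num)).trans h2)

end

/-! ### alternating groups -/

/-- the centralizer of a 3-cycle (after helper343) -/
theorem has2_alt {n : ℕ} (hn : 5 ≤ n) : ∃ y : alternatingGroup (Fin n), orderOf y = 3 ∧
    (n - 3).factorial * 3 ∣ 2 * Nat.card (Subgroup.centralizer ({y} : Set (alternatingGroup (Fin n)))) := by
  have h3 : ∃ g : Equiv.Perm (Fin n), g.cycleType = {3} :=
    (Equiv.Perm.exists_with_cycleType_iff (Fin n)).mpr ⟨by simp; omega, by simp⟩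
  obtain ⟨g, hg⟩ := h3
  have hs : g ∈ alternatingGroup (Fin n) := by
    rw [Equiv.Perm.mem_alternatingGroup]
    exact Equiv.Perm.IsThreeCycle.sign hg
  have ho : orderOf g = 3 := Equiv.Perm.IsThreeCycle.orderOf hg
  refine ⟨⟨g, hs⟩, ?_, ?_⟩
  · rw [← Subgroup.orderOf_coe]; exact ho
  · have h1 := Equiv.Perm.nat_card_centralizer g
    rw [hg] at h1
    simp at h1
    have h2 : Nat.card ↥(Subgroup.centralizer ({(⟨g, hs⟩ : alternatingGroup (Fin n))} : Set (alternatingGroup (Fin n)))) =
        Nat.card ↥(alternatingGroup (Fin n) ⊓ Subgroup.centralizer ({g} : Set (Equiv.Perm (Fin n)))) := by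
      refine Nat.card_congr
        { toFun := fun c => ⟨c.1.1, c.1.2, ?_⟩
          invFun := fun c => ⟨⟨c.1, c.2.1⟩, ?_⟩
          left_inv := fun c => rfl
          right_inv := fun c => rfl }
      · have := Subgroup.mem_centralizer_singleton_iff.mp c.2
        exact Subgroup.mem_centralizer_singleton_iff.mpr (congrArg Subtype.val this)
      · have := Subgroup.mem_centralizer_singleton_iff.mp c.2.2
        exact Subgroup.mem_centralizer_singleton_iff.mpr (Subtype.ext this)
    have h3 : (alternatingGroup (Fin n)).relIndex (Subgroup.centralizer ({g} : Set (Equiv.Perm (Fin n)))) ∣ 2 := by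
      have : Nontrivial (Fin n) := Fin.nontrivial_iff_two_le.2 (by omega)
      rw [← alternatingGroup.index_eq_two (α := Fin n)]
      exact Subgroup.relIndex_dvd_index_of_normal _ _
    have h4 : (alternatingGroup (Fin n)).relIndex (Subgroup.centralizer ({g} : Set (Equiv.Perm (Fin n)))) *
        Nat.card ↥(alternatingGroup (Fin n) ⊓ Subgroup.centralizer ({g} : Set (Equiv.Perm (Fin n)))) =
        Nat.card (Subgroup.centralizer ({g} : Set (Equiv.Perm (Fin n)))) := by
      rw [← Subgroup.inf_relIndex_right, ← Subgroup.relIndex_bot_left, ← Subgroup.relIndex_bot_left, mul_comm]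
      exact Subgroup.relIndex_mul_relIndex _ _ _ bot_le inf_le_right
    rw [h2, ← h1, ← h4]
    exact Nat.mul_dvd_mul_right h3 _

theorem alt_case {X : Type*} [Group X] {n : ℕ} (hn : 5 ≤ n) (h : El X) (e : X ≃* ↥(alternatingGroup (Fin n))) :
    False := by
  have h' := h.congr e
  have hc := alt_card hn (MulEquiv.refl (alternatingGroup (Fin n)))
  have h15 : 15 ≤ n := by
    by_contra hlt
    push Not at hlt
    have h1 : 3 ^ 6 ∣ n.factorial := by
      rw [hc]
      exact ((show (3 : ℕ) ^ 6 ∣ 151632 by norm_num).trans h'.hP).mul_left 2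
    have h2 : 3 ^ 6 ∣ (14).factorial := h1.trans (Nat.factorial_dvd_factorial (by omega))
    revert h2; decide
  obtain ⟨y, hy, hd⟩ := has2_alt hn
  have h12 : (12).factorial * 3 ∣ 2 * Nat.card (Subgroup.centralizer ({y} : Set (alternatingGroup (Fin n)))) :=
    (Nat.mul_dvd_mul_right (Nat.factorial_dvd_factorial (by omega)) 3).trans hd
  have h3645 : 3645 * 2 ∣ (12).factorial * 3 := by decide
  have h5 : 3645 ∣ Nat.card (Subgroup.centralizer ({y} : Set (alternatingGroup (Fin n)))) := by
    have := h3645.trans h12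
    rw [mul_comm] at this
    exact Nat.dvd_of_mul_dvd_mul_left (by norm_num) this
  have h6 := h'.uniq y (by rw [← hy]; exact pow_orderOf_eq_one y) (by
    rintro rfl
    rw [orderOf_one] at hy
    omega) ((show (3 : ℕ) ^ 6 ∣ 3645 by norm_num).trans h5)
  rw [h6] at h5
  revert h5; decide

/-! ### exceptional groups -/

theorem not_dvd_pow {q N : ℕ} (hq : 2 ≤ q) (h3 : ¬ 3 ∣ q) (hN : 4 ≤ N) : ¬ q ^ N ∣ 5832 := by
  intro h
  have h1 : q ^ N ∣ 8 * 729 := h
  have h2 : (q ^ N).Coprime 729 := by
    have : Nat.Coprime q (3 ^ 6) := ((Nat.Prime.coprime_iff_not_dvd Nat.prime_three).2 h3).symm.pow_right 6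
    exact this.pow_left N
  have h3 := h2.dvd_of_dvd_mul_right h1
  have h4 := Nat.le_of_dvd (by norm_num) h3
  have h5 : 2 ^ 4 ≤ q ^ N := (Nat.pow_le_pow_left hq 4).trans (Nat.pow_le_pow_right (by omega) hN)
  omega

theorem charP_ne {F : Type*} [Field F] [Fintype F] (h : ¬ 3 ∣ Fintype.card F) :
    ∃ r : ℕ, ∃ _ : Fact r.Prime, ∃ _ : CharP F r, r ≠ 3 := by
  obtain ⟨p, hp⟩ := CharP.exists F
  have hpp : p.Prime := (CharP.char_is_prime_or_zero F p).resolve_right (by
    intro h0
    subst h0
    have := CharP.charP_to_charZero F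
    exact not_finite F)
  refine ⟨p, ⟨hpp⟩, hp, ?_⟩
  obtain ⟨n, hn⟩ := FiniteField.card F p
  rintro rfl
  rw [hn.2] at h
  exact h (dvd_pow_self 3 n.ne_zero)

/-- the characteristic of a field of order a power of `q` -/
theorem char_pow {F : Type*} [Field F] [Fintype F] {q k : ℕ} (hq : IsPrimePow q) (hk : k ≠ 0)
    (hF : Fintype.card F = q ^ k) {r : ℕ} [Fact r.Prime] [CharP F r] : ∃ n : ℕ, 0 < n ∧ q = r ^ n := by
  obtain ⟨p, n, hp, hn, rfl⟩ := (isPrimePow_nat_iff q).1 hq
  obtain ⟨m, hm⟩ := FiniteField.card F r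
  have h1 : p ∣ Fintype.card F := by
    rw [hF, ← pow_mul]
    exact dvd_pow_self p (Nat.mul_ne_zero hn.ne' hk)
  rw [hm.2] at h1
  have h2 : p = r := (Nat.prime_dvd_prime_iff_eq hp Fact.out).1 (hp.dvd_of_dvd_pow h1)
  exact ⟨n, hn, by rw [h2]⟩

theorem big_three {q e f c : ℕ} (h3 : 3 ∣ q) (he : 7 ≤ e) (hc : c = q ^ e * f) : 3 ^ 7 ∣ c := by
  rw [hc]
  exact Dvd.dvd.mul_right ((pow_dvd_pow_of_dvd h3 7).trans (pow_dvd_pow q he)) _

theorem big_three' {q e f c d : ℕ} (h3 : 3 ∣ q) (he : 7 ≤ e) (hd : d.Coprime q) (hc : d * c = q ^ e * f) :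
    3 ^ 7 ∣ c := by
  have h1 := big_three h3 he hc
  refine Nat.Coprime.dvd_of_dvd_mul_left ?_ h1
  exact (Nat.Coprime.coprime_dvd_right h3 hd).symm.pow_left 7

/-- **The elimination.** -/
theorem elim (T : OrderTable.{u}) {S : Type u} [Group S] (h : IsKnownSimple' S) (hS : El S) :
    Real (.psl 3 9) S ∨ Real (.psl 4 3) S ∨ Real (.g2 3) S := by
  have h7 := hS.h7
  have key : ∀ (g : Grp), g ∈ spor.map (fun x => x.1) → Real g S → False := fun g hg hr => by
    obtain ⟨x, hx, rfl⟩ := List.mem_map.1 hg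
    have h1 := hS.P
    rw [T.spor S x hx hr] at h1
    have h2 : ∀ x ∈ spor, P x.2 = false := by decide +kernel
    rw [h2 x hx] at h1
    exact absurd h1 (by decide)
  obtain ⟨z, hz3, hz1, hzc⟩ := hS.z
  rcases h with h | h | h | h | h | h | h | h | h | h
  · exfalso
    have hd : 151632 ∣ Nat.card S := hS.hP
    have h2 : 2 ∣ Nat.card S := Dvd.dvd.trans (by norm_num) hd
    have h3 : 3 ∣ Nat.card S := Dvd.dvd.trans (by norm_num) hd
    have e2 := (Nat.prime_dvd_prime_iff_eq Nat.prime_two h).1 h2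
    have e3 := (Nat.prime_dvd_prime_iff_eq Nat.prime_three h).1 h3
    omega
  · obtain ⟨n, hn, ⟨e⟩⟩ := h
    exact (alt_case hn hS e).elim
  · obtain ⟨F, _, _, n, hn, hn2, ⟨e⟩⟩ := h
    have h1 := psl_case hn hn2 hS e
    have h2 : ∀ x ∈ candT fPSL, x = (3, 9) ∨ x = (4, 3) := by decide +kernel
    rcases h2 _ h1 with h3 | h3
    · rw [Prod.mk.injEq] at h3
      obtain ⟨rfl, h4⟩ := h3
      exact Or.inl ⟨F, inferInstance, inferInstance, h4, ⟨e⟩⟩
    · rw [Prod.mk.injEq] at h3
      obtain ⟨rfl, h4⟩ := h3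
      exact Or.inr (Or.inl ⟨F, inferInstance, inferInstance, h4, ⟨e⟩⟩)
  · obtain ⟨F, _, _, n, hn, hn2, ⟨e⟩⟩ := h
    exfalso
    have h1 := psp_case hn hn2 hS e
    have h2 : candT fPSp = [] := by decide +kernel
    rw [h2] at h1
    exact absurd h1 List.not_mem_nil
  · obtain ⟨F, _, _, n, q, hF, hn, hn2, ⟨e⟩⟩ := h
    exfalso
    have h1 := psu_case hF hn hn2 hS e
    have h2 : candT fPSU = [] := by decide +kernel
    rw [h2] at h1
    exact absurd h1 List.not_mem_nil
  · obtain ⟨F, _, _, n, hn, ho, ⟨e⟩⟩ := h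
    exact (oodd_case hn ho hS e).elim
  · obtain ⟨F, _, _, n, hn, ⟨e⟩⟩ := h
    exact (oplus_case hn hS e).elim
  · obtain ⟨F, _, _, n, a, b, hn, hab, ⟨e⟩⟩ := h
    exact (ominus_case hn hab hS e).elim
  · have hce : ∀ {Y : Type} [Group Y] (e : S ≃* Y), (e z) ^ 3 = 1 ∧
        Nat.card ↥(Subgroup.centralizer ({e z} : Set Y)) = 5832 := by
      intro Y _ e
      exact ⟨by rw [← map_pow, hz3, map_one], by rw [card_centralizer_congr, hzc]⟩
    rcases h with h | h | h | h | h | h | h | h | h | h | h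
    · -- `G₂`
      obtain ⟨F, _, _, hq, ⟨e⟩⟩ := h
      obtain ⟨hz, hc⟩ := hce e
      have hcard := Nat.card_congr e.toEquiv
      by_cases ho : 3 ∣ Fintype.card F
      · rw [hcard] at h7
        have hP := hS.P
        rw [hcard] at hP
        have h1 := mem_candT fG2 (n := 0) (c := Nat.card ↥(Lie.chevG2.group F)) Fintype.isPrimePow_card_of_field ho
          (Nat.zero_le _) (Nat.zero_le _) (by change 1 ≤ 6 + 1000 * 0; omega) (by
            change Nat.ble 3 (Fintype.card F) = true
            rw [Nat.ble_eq]; exact hq)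
          (by
            change 1 * Nat.card ↥(Lie.chevG2.group F) = Fintype.card F ^ 6 *
              ((Fintype.card F ^ 2 - 1) * (Fintype.card F ^ 6 - 1))
            rw [T.g2 F]; ring)
          (by
            change Fintype.card F ^ (6 + 1000 * 0) ∣ Fintype.card F ^ 6 * _
            rw [mul_zero, add_zero]; exact Dvd.intro _ rfl)
          (Nat.coprime_one_left _) h7 hP
        have h2 : ∀ x ∈ candT fG2, x.1 = 0 → x.2 = 3 := by decide +kernel
        exact Or.inr (Or.inr ⟨F, inferInstance, inferInstance, h2 _ h1 rfl, ⟨e⟩⟩)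
      · exfalso
        obtain ⟨r, _, _, hr⟩ := charP_ne ho
        have h1 := H261.pow_dvd_G2 F hr (e z) hz
        rw [hc, Nat.card_eq_fintype_card] at h1
        have h2 : (Fintype.card F).Coprime 729 := by
          have : Nat.Coprime (Fintype.card F) (3 ^ 6) :=
            ((Nat.Prime.coprime_iff_not_dvd Nat.prime_three).2 ho).symm.pow_right 6
          exact this
        have h3 : Fintype.card F ∣ 8 := h2.dvd_of_dvd_mul_right (show Fintype.card F ∣ 8 * 729 from h1)
        have h4 := Nat.le_of_dvd (by norm_num) h3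
        have h5 : Fintype.card F = 4 ∨ Fintype.card F = 8 := by
          generalize Fintype.card F = q at h3 h4 hq ⊢
          interval_cases q <;> revert h3 <;> decide
        have h6 := hS.P
        rw [hcard, T.g2 F] at h6
        rcases h5 with h5 | h5 <;> rw [h5] at h6 <;> revert h6 <;> decide +kernel
    · -- `F₄`
      obtain ⟨F, _, _, ⟨e⟩⟩ := h
      exfalso
      obtain ⟨hz, hc⟩ := hce e
      have hcard := Nat.card_congr e.toEquiv
      by_cases ho : 3 ∣ Fintype.card F
      · exact h7 (big_three ho (show 7 ≤ 24 by norm_num) (by rw [hcard, T.f4 F _ rfl]; simp only [mul_assoc]; rfl))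
      · obtain ⟨r, _, _, hr⟩ := charP_ne ho
        have h1 := H261.pow_dvd_F4 F hr (e z) hz
        rw [hc, Nat.card_eq_fintype_card] at h1
        exact not_dvd_pow Fintype.one_lt_card ho (by norm_num) h1
    · -- `E₆`
      obtain ⟨F, _, _, ⟨e⟩⟩ := h
      exfalso
      obtain ⟨hz, hc⟩ := hce e
      have hcard := Nat.card_congr e.toEquiv
      by_cases ho : 3 ∣ Fintype.card F
      · have h0 := cop_sub (q := Fintype.card F) (k := 1) Fintype.card_pos le_rfl
        rw [pow_one] at h0
        exact h7 (big_three' ho (show 7 ≤ 36 by norm_num) (Nat.Coprime.coprime_dvd_left (Nat.gcd_dvd_right 3 _) h0)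
          (by rw [hcard, T.e6 F _ rfl]; simp only [mul_assoc]; rfl))
      · obtain ⟨r, _, _, hr⟩ := charP_ne ho
        have h1 := H261.pow_dvd_E6 F hr (e z) hz
        rw [hc, Nat.card_eq_fintype_card] at h1
        exact not_dvd_pow Fintype.one_lt_card ho (by norm_num) h1
    · -- `E₇`
      obtain ⟨F, _, _, ⟨e⟩⟩ := h
      exfalso
      obtain ⟨hz, hc⟩ := hce e
      have hcard := Nat.card_congr e.toEquiv
      by_cases ho : 3 ∣ Fintype.card F
      · have h0 := cop_sub (q := Fintype.card F) (k := 1) Fintype.card_pos le_rfl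
        rw [pow_one] at h0
        exact h7 (big_three' ho (show 7 ≤ 63 by norm_num) (Nat.Coprime.coprime_dvd_left (Nat.gcd_dvd_right 2 _) h0)
          (by rw [hcard, T.e7 F _ rfl]; simp only [mul_assoc]; rfl))
      · obtain ⟨r, _, _, hr⟩ := charP_ne ho
        have h1 := H261.pow_dvd_E7 F hr (e z) hz
        rw [hc, Nat.card_eq_fintype_card] at h1
        exact not_dvd_pow Fintype.one_lt_card ho (by norm_num) h1
    · -- `E₈`
      obtain ⟨F, _, _, ⟨e⟩⟩ := h
      exfalso
      obtain ⟨hz, hc⟩ := hce e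
      have hcard := Nat.card_congr e.toEquiv
      by_cases ho : 3 ∣ Fintype.card F
      · exact h7 (big_three ho (show 7 ≤ 120 by norm_num) (by rw [hcard, T.e8 F _ rfl]; simp only [mul_assoc]; rfl))
      · obtain ⟨r, _, _, hr⟩ := charP_ne ho
        have h1 := H261.pow_dvd_E8 F hr (e z) hz
        rw [hc, Nat.card_eq_fintype_card] at h1
        exact not_dvd_pow Fintype.one_lt_card ho (by norm_num) h1
    · -- `²E₆`
      obtain ⟨F, _, _, q, hq, hF, ⟨e⟩⟩ := h
      exfalso
      obtain ⟨hz, hc⟩ := hce e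
      have hcard := Nat.card_congr e.toEquiv
      by_cases ho : 3 ∣ q
      · have h0 := cop_add (q := q) (k := 1) le_rfl
        rw [pow_one] at h0
        exact h7 (big_three' ho (show 7 ≤ 36 by norm_num) (Nat.Coprime.coprime_dvd_left (Nat.gcd_dvd_right 3 _) h0)
          (by rw [hcard, T.te6 F q hq hF]; simp only [mul_assoc]; rfl))
      · obtain ⟨r, _, _, hr⟩ := charP_ne (F := F) (by rw [hF]; exact fun h1 => ho (Nat.prime_three.dvd_of_dvd_pow h1))
        obtain ⟨n, hn0, hn⟩ := char_pow (F := F) hq (by norm_num) hF (r := r)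
        have h1 := H261.Tw.pow_dvd_twE6 F hr hn0 hn hF (e z) hz
        rw [hc] at h1
        exact not_dvd_pow hq.two_le ho (by norm_num) h1
    · -- `³D₄`
      obtain ⟨F, _, _, q, hq, hF, ⟨e⟩⟩ := h
      exfalso
      obtain ⟨hz, hc⟩ := hce e
      have hcard := Nat.card_congr e.toEquiv
      by_cases ho : 3 ∣ q
      · exact h7 (big_three ho (show 7 ≤ 12 by norm_num) (by rw [hcard, T.td4 F q hq hF]; simp only [mul_assoc]; rfl))
      · obtain ⟨r, _, _, hr⟩ := charP_ne (F := F) (by rw [hF]; exact fun h1 => ho (Nat.prime_three.dvd_of_dvd_pow h1))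
        obtain ⟨n, hn0, hn⟩ := char_pow (F := F) hq (by norm_num) hF (r := r)
        have h1 := H261.Tw.pow_dvd_twD4 F hr hn0 hn hF (e z) hz
        rw [hc] at h1
        have h2 : (q ^ 3).Coprime 729 := by
          have : Nat.Coprime q (3 ^ 6) := ((Nat.Prime.coprime_iff_not_dvd Nat.prime_three).2 ho).symm.pow_right 6
          exact this.pow_left 3
        have h3 : q ^ 3 ∣ 8 := h2.dvd_of_dvd_mul_right (show q ^ 3 ∣ 8 * 729 from h1)
        have h4 := Nat.le_of_dvd (by norm_num) h3
        have h5 : q < 3 := by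
          by_contra hlt
          push Not at hlt
          have : 3 ^ 3 ≤ q ^ 3 := Nat.pow_le_pow_left hlt 3
          omega
        have h6 : q = 2 := by have := hq.two_le; omega
        have h8 := hS.P
        rw [hcard, T.td4 F q hq hF, h6] at h8
        revert h8; decide +kernel
    · -- Suzuki
      obtain ⟨F, _, _, m, hm, hF, ⟨e⟩⟩ := h
      exfalso
      have hcard := Nat.card_congr e.toEquiv
      have hd : 3 ∣ Nat.card S := Dvd.dvd.trans (by norm_num) hS.hP
      rw [hcard, T.sz F m hm hF] at hd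
      obtain ⟨k, rfl⟩ : ∃ k, m = k + 1 := ⟨m - 1, by omega⟩
      obtain ⟨h1, -, h2⟩ := odd_pow_mod k
      rw [show 2 * (k + 1) + 1 = 2 * k + 3 by ring] at hd
      generalize 2 ^ (2 * k + 3) = q at hd h1 h2
      rcases (Nat.Prime.dvd_mul Nat.prime_three).1 hd with hd | hd
      · rcases (Nat.Prime.dvd_mul Nat.prime_three).1 hd with hd | hd
        · have := Nat.prime_three.dvd_of_dvd_pow hd
          omega
        · omega
      · have : q ^ 2 % 3 = 1 := by rw [Nat.pow_mod, h2]
        omega
    · -- Ree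
      obtain ⟨F, _, _, m, hm, hF, ⟨e⟩⟩ := h
      exfalso
      apply h7
      rw [Nat.card_congr e.toEquiv, T.ree F m hm hF, ← pow_mul, mul_assoc]
      exact Dvd.dvd.mul_right (pow_dvd_pow 3 (by omega)) _
    · -- `²F₄`
      obtain ⟨F, _, _, m, hm, hF, ⟨e⟩⟩ := h
      exfalso
      apply h7
      have hd : 3 ^ 6 ∣ Nat.card S := Dvd.dvd.trans (by norm_num) hS.hP
      rw [Nat.card_congr e.toEquiv, T.tf4 F m hm hF] at hd ⊢
      obtain ⟨k, rfl⟩ : ∃ k, m = k + 1 := ⟨m - 1, by omega⟩
      obtain ⟨h1, -, h2⟩ := odd_pow_mod k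
      rw [show 2 * (k + 1) + 1 = 2 * k + 3 by ring] at hd ⊢
      generalize 2 ^ (2 * k + 3) = q at hd h1 h2 ⊢
      have e1 : q ^ 12 * (q - 1) * (q ^ 3 + 1) * (q ^ 4 - 1) * (q ^ 6 + 1) =
        q ^ 12 * (q ^ 6 + 1) * (q ^ 4 - 1) * (q ^ 3 + 1) * (q - 1) := by ring
      rw [e1] at hd ⊢
      exact Three13.tf4 h2 hd
    · exact (key .tits (by decide) h).elim
  · exfalso
    rcases h with h | h | h | h | h | h | h | h | h | h | h | h | h | h | h | h | h | h | h | h | h | h | h | h | h | h
    · exact key .m11 (by decide) h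
    · exact key .m12 (by decide) h
    · exact key .m22 (by decide) h
    · exact key .m23 (by decide) h
    · exact key .m24 (by decide) h
    · exact key .j1 (by decide) h
    · exact key .j2 (by decide) h
    · exact key .j3 (by decide) h
    · exact key .j4 (by decide) h
    · exact key .co1 (by decide) h
    · exact key .co2 (by decide) h
    · exact key .co3 (by decide) h
    · exact key .mcl (by decide) h
    · exact key .hs (by decide) h
    · exact key .suz (by decide) h
    · exact key .he (by decide) h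
    · exact key .ru (by decide) h
    · exact key .on (by decide) h
    · exact key .ly (by decide) h
    · exact key .fi22 (by decide) h
    · exact key .fi23 (by decide) h
    · exact key .fi24 (by decide) h
    · exact key .hn (by decide) h
    · exact key .th (by decide) h
    · exact key .b (by decide) h
    · exact key .m (by decide) h

end Cfsg.Agent.H352.Elim
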