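import Cfsg.Agent.H352.Elim.Main
import Cfsg.Agent.ChevalleyStructure.Ree.Words
import Cfsg.Agent.S1027
import Cfsg.Agent.SporadicA.FieldFour

/-!
# `L₃(9)` and `G₂(3)` have Sylow 3-subgroups with centre of order 9 (helper352)
-/

set_option autoImplicit false

namespace Cfsg.Agent.H352.Elim

open Cfsg Cfsg.Agent.OrdDiv Matrix

theorem three_lt_card {G : Type*} [Group G] {C : Subgroup G} [Finite C] {a b : G} (ha : a ∈ C) (hb : b ∈ C)
    (ha1 : a ≠ 1) (hb1 : b ≠ 1) (hab : a ≠ b) (hab1 : a * b ≠ 1) : 3 < Nat.card C := by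
  let f : Fin 4 → C := ![1, ⟨a, ha⟩, ⟨b, hb⟩, ⟨a * b, C.mul_mem ha hb⟩]
  have hf : Function.Injective f := by
    intro i j h
    fin_cases i <;> fin_cases j <;> simp [f, Subtype.ext_iff] at h ⊢ <;> first
      | exact ha1 h | exact ha1 h.symm | exact hb1 h | exact hb1 h.symm | exact hab h | exact hab h.symm
      | exact hab1 h | exact hab1 h.symm
  have := Nat.card_le_card_of_injective f hf
  rw [Nat.card_fin] at this
  omega

section L39

variable {F : Type*} [Field F]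

/-- the unitriangular matrices -/
def uni (F : Type*) [Field F] : Subgroup (SpecialLinearGroup (Fin 3) F) where
  carrier := {A | A.1 0 0 = 1 ∧ A.1 1 1 = 1 ∧ A.1 2 2 = 1 ∧ A.1 1 0 = 0 ∧ A.1 2 0 = 0 ∧ A.1 2 1 = 0}
  one_mem' := by simp
  mul_mem' := by
    rintro A B ⟨a1, a2, a3, a4, a5, a6⟩ ⟨b1, b2, b3, b4, b5, b6⟩
    have e : ∀ i j, (A * B).1 i j = A.1 i 0 * B.1 0 j + A.1 i 1 * B.1 1 j + A.1 i 2 * B.1 2 j := by
      intro i j
      show (A.1 * B.1) i j = _
      rw [Matrix.mul_apply, Fin.sum_univ_three]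
    refine ⟨?_, ?_, ?_, ?_, ?_, ?_⟩ <;> rw [e] <;> simp [a1, a2, a3, a4, a5, a6, b1, b2, b3, b4, b5, b6]
  inv_mem' := by
    rintro A ⟨a1, a2, a3, a4, a5, a6⟩
    have e : (A⁻¹).1 = A.1.adjugate := Matrix.SpecialLinearGroup.coe_inv A
    refine ⟨?_, ?_, ?_, ?_, ?_, ?_⟩ <;> rw [e, Matrix.adjugate_fin_three] <;> simp [a1, a2, a3, a4, a5, a6]

/-- elements of `uni` -/
def mkU (a b c : F) : SpecialLinearGroup (Fin 3) F :=
  ⟨!![1, a, c; 0, 1, b; 0, 0, 1], by simp [Matrix.det_fin_three]⟩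

theorem mkU_mem (a b c : F) : mkU a b c ∈ uni F := by
  refine ⟨?_, ?_, ?_, ?_, ?_, ?_⟩ <;> simp [mkU]

theorem eq_mkU {A : SpecialLinearGroup (Fin 3) F} (h : A ∈ uni F) : A = mkU (A.1 0 1) (A.1 1 2) (A.1 0 2) := by
  obtain ⟨a1, a2, a3, a4, a5, a6⟩ := h
  apply Subtype.ext
  ext i j
  fin_cases i <;> fin_cases j <;> simp [mkU, a1, a2, a3, a4, a5, a6]

theorem card_uni [Fintype F] : Nat.card ↥(uni F) = Fintype.card F ^ 3 := by
  have e : F × F × F ≃ ↥(uni F) :=
    { toFun := fun x => ⟨mkU x.1 x.2.1 x.2.2, mkU_mem _ _ _⟩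
      invFun := fun A => (A.1.1 0 1, A.1.1 1 2, A.1.1 0 2)
      left_inv := fun x => by simp [mkU]
      right_inv := fun A => Subtype.ext (eq_mkU A.2).symm }
  rw [← Nat.card_congr e, Nat.card_prod, Nat.card_prod, Nat.card_eq_fintype_card]
  ring

theorem eq_one_of_center {A : SpecialLinearGroup (Fin 3) F} (h : A ∈ uni F)
    (hc : A ∈ Subgroup.center (SpecialLinearGroup (Fin 3) F)) : A = 1 := by
  obtain ⟨r, -, hr⟩ := Matrix.SpecialLinearGroup.mem_center_iff.1 hc
  have h1 : A.1 0 1 = 0 := by rw [← hr]; simp [Matrix.scalar_apply]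
  have h2 : A.1 1 2 = 0 := by rw [← hr]; simp [Matrix.scalar_apply]
  have h3 : A.1 0 2 = 0 := by rw [← hr]; simp [Matrix.scalar_apply]
  rw [eq_mkU h, h1, h2, h3]
  apply Subtype.ext
  ext i j
  fin_cases i <;> fin_cases j <;> simp [mkU]

theorem mkU_central (c : F) {A : SpecialLinearGroup (Fin 3) F} (h : A ∈ uni F) : A * mkU 0 0 c = mkU 0 0 c * A := by
  rw [eq_mkU h]
  generalize A.1 0 1 = a
  generalize A.1 1 2 = b
  generalize A.1 0 2 = d
  apply Subtype.ext
  show !![1, a, d; 0, 1, b; 0, 0, 1] * !![1, 0, c; 0, 1, 0; 0, 0, 1] =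
    !![1, 0, c; 0, 1, 0; 0, 0, 1] * !![1, a, d; 0, 1, b; 0, 0, 1]
  ext i j
  rw [Matrix.mul_apply, Matrix.mul_apply, Fin.sum_univ_three, Fin.sum_univ_three]
  fin_cases i <;> fin_cases j <;> simp [add_comm]

theorem mkU_mul (c d : F) : mkU 0 0 c * mkU 0 0 d = mkU 0 0 (c + d) := by
  apply Subtype.ext
  show !![1, 0, c; 0, 1, 0; 0, 0, 1] * !![1, 0, d; 0, 1, 0; 0, 0, 1] = !![1, 0, c + d; 0, 1, 0; 0, 0, 1]
  ext i j
  rw [Matrix.mul_apply, Fin.sum_univ_three]
  fin_cases i <;> fin_cases j <;> simp [add_comm]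

theorem mkU_inj {c d : F} (h : mkU 0 0 c = mkU 0 0 d) : c = d := by
  have := congrArg (fun A : SpecialLinearGroup (Fin 3) F => A.1 0 2) h
  simpa [mkU] using this

theorem mkU_zero : mkU 0 0 (0 : F) = 1 := by
  apply Subtype.ext
  ext i j
  fin_cases i <;> fin_cases j <;> simp [mkU]

theorem l39 [Fintype F] (hF : Fintype.card F = 9) : ∃ U : Subgroup (ProjectiveSpecialLinearGroup (Fin 3) F),
    Nat.card U = 729 ∧ 3 < Nat.card ↥(U ⊓ Subgroup.centralizer (U : Set (ProjectiveSpecialLinearGroup (Fin 3) F))) := by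
  classical
  let π : SpecialLinearGroup (Fin 3) F →* ProjectiveSpecialLinearGroup (Fin 3) F := QuotientGroup.mk' _
  have hker : ∀ A ∈ uni F, π A = 1 → A = 1 := fun A hA h => eq_one_of_center hA ((QuotientGroup.eq_one_iff A).1 h)
  have hinj : ∀ A ∈ uni F, ∀ B ∈ uni F, π A = π B → A = B := by
    intro A hA B hB h
    have := hker (A * B⁻¹) ((uni F).mul_mem hA ((uni F).inv_mem hB)) (by rw [map_mul, map_inv, h, mul_inv_cancel])
    exact mul_inv_eq_one.1 this
  have : Finite (ProjectiveSpecialLinearGroup (Fin 3) F) := Quotient.finite _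
  obtain ⟨x, hx⟩ : ∃ x : F, x ∉ ({0, 1, -1} : Finset F) := by
    by_contra hcon
    push Not at hcon
    have h1 : (Finset.univ : Finset F) ⊆ {0, 1, -1} := fun x _ => hcon x
    have h2 := Finset.card_le_card h1
    rw [Finset.card_univ, hF] at h2
    have h3 : ({0, 1, -1} : Finset F).card ≤ 3 := Finset.card_le_three
    omega
  simp only [Finset.mem_insert, Finset.mem_singleton, not_or] at hx
  refine ⟨(uni F).map π, ?_, ?_⟩
  · have h1 : Nat.card ↥((uni F).map π) = Nat.card ↥(uni F) := by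
      refine (Nat.card_congr (Equiv.ofBijective
        (fun A : ↥(uni F) => (⟨π A, ⟨A, A.2, rfl⟩⟩ : ↥((uni F).map π))) ⟨?_, ?_⟩)).symm
      · intro A B h
        exact Subtype.ext (hinj A A.2 B B.2 (congrArg Subtype.val h))
      · rintro ⟨_, A, hA, rfl⟩
        exact ⟨⟨A, hA⟩, rfl⟩
    rw [h1, card_uni, hF]; norm_num
  · have hmem : ∀ c : F, π (mkU 0 0 c) ∈ (uni F).map π ⊓
        Subgroup.centralizer (((uni F).map π : Subgroup _) : Set (ProjectiveSpecialLinearGroup (Fin 3) F)) := by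
      intro c
      refine ⟨⟨_, mkU_mem 0 0 c, rfl⟩, Subgroup.mem_centralizer_iff.2 ?_⟩
      rintro _ ⟨A, hA, rfl⟩
      show π A * π (mkU 0 0 c) = π (mkU 0 0 c) * π A
      rw [← map_mul, ← map_mul, mkU_central c hA]
    have hi : ∀ c d : F, π (mkU 0 0 c) = π (mkU 0 0 d) → c = d := fun c d h =>
      mkU_inj (hinj _ (mkU_mem 0 0 c) _ (mkU_mem 0 0 d) h)
    have h0 : π (mkU 0 0 (0 : F)) = 1 := by rw [mkU_zero, map_one]
    refine three_lt_card (hmem 1) (hmem x) ?_ ?_ ?_ ?_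
    · intro h; rw [← h0] at h; exact one_ne_zero (hi _ _ h)
    · intro h; rw [← h0] at h; exact hx.1 (hi _ _ h)
    · intro h; exact hx.2.1 (hi _ _ h).symm
    · intro h
      rw [← map_mul, mkU_mul, ← h0] at h
      exact hx.2.2 (eq_neg_of_add_eq_zero_right (hi _ _ h))

end L39

section G2

open Cfsg.Lie Cfsg.Agent.ChevalleyStructure Cfsg.Agent.ChevalleyStructure.Elts Cfsg.Agent.ChevalleyStructure.Ree.Checks
  Cfsg.Agent.ChevalleyStructure.Ree.Words

variable {F : Type*} [Field F]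

theorem hG2 : InList chevG2 := by
  show chevG2 ∈ [chevG2, chevB2, chevD4, chevF4, chevE6, chevE7, chevE8]
  exact List.mem_cons_self

theorem posRoot_iff {r : ℕ} (h : chevG2.IsPosRoot r) : r ∈ [6, 7, 8, 9, 10, 11] := by
  have h12 : r < 12 := h.1
  have : ∀ r < 12, chevG2.IsPosRoot r → r ∈ [6, 7, 8, 9, 10, 11] := by decide
  exact this r h12 h

theorem comm9 (h3 : ((3 : ℕ) : F) = 0) {r : ℕ} (h : r ∈ [6, 7, 8, 9, 10, 11]) (s t : F) :
    X r s * X 9 t = X 9 t * X r s := by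
  simp only [List.mem_cons, List.not_mem_nil, or_false] at h
  rcases h with rfl | rfl | rfl | rfl | rfl | rfl
  · exact X_comm h3 (p := (6, 9)) (by decide) s t
  · exact X_comm h3 (p := (7, 9)) (by decide) s t
  · exact X_comm h3 (p := (8, 9)) (by decide) s t
  · rw [X_add (by norm_num), X_add (by norm_num), add_comm]
  · exact (X_comm h3 (p := (9, 10)) (by decide) t s).symm
  · exact (X_comm h3 (p := (9, 11)) (by decide) t s).symm

theorem comm11 (h3 : ((3 : ℕ) : F) = 0) {r : ℕ} (h : r ∈ [6, 7, 8, 9, 10, 11]) (s t : F) :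
    X r s * X 11 t = X 11 t * X r s := by
  simp only [List.mem_cons, List.not_mem_nil, or_false] at h
  rcases h with rfl | rfl | rfl | rfl | rfl | rfl
  · exact X_comm h3 (p := (6, 11)) (by decide) s t
  · exact X_comm h3 (p := (7, 11)) (by decide) s t
  · exact X_comm h3 (p := (8, 11)) (by decide) s t
  · exact X_comm h3 (p := (9, 11)) (by decide) s t
  · exact X_comm h3 (p := (10, 11)) (by decide) s t
  · rw [X_add (by norm_num), X_add (by norm_num), add_comm]

theorem entry (r : ℕ) (hr : r < 12) (t : F) (u : Fin 12) (i : Fin 2) :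
    chevG2.x F r t (Sum.inr u) (Sum.inl i) =
      if u.val = r then - (((chevG2.cartanSR.getD i.val #[]).getD r 0 : ℤ) : F) * t else 0 := by
  have hr' : r < chevG2.nroots := hr
  unfold ChevalleyDatum.x
  rw [dif_pos hr']
  unfold ChevalleyDatum.xMat
  rw [Matrix.of_apply]
  show (if u = (⟨r, hr'⟩ : Fin 12) then _ else _) = _
  by_cases h : u.val = r
  · rw [if_pos h, if_pos (Fin.ext h)]
  · rw [if_neg h, if_neg (fun h1 => h (congrArg Fin.val h1))]

theorem entry99 (t : F) : chevG2.x F 9 t (Sum.inr (9 : Fin 12)) (Sum.inl (0 : Fin 2)) = -t := by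
  rw [entry 9 (by norm_num), if_pos (by decide)]
  have : ((chevG2.cartanSR.getD (0 : Fin 2).val #[]).getD 9 0 : ℤ) = 1 := by decide
  rw [this, Int.cast_one, neg_mul, one_mul]

theorem entry119 (t : F) : chevG2.x F 11 t (Sum.inr (9 : Fin 12)) (Sum.inl (0 : Fin 2)) = 0 := by
  rw [entry 11 (by norm_num), if_neg (by decide)]

theorem entry1111 (t : F) : chevG2.x F 11 t (Sum.inr (11 : Fin 12)) (Sum.inl (1 : Fin 2)) = -t := by
  rw [entry 11 (by norm_num), if_pos (by decide)]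
  have : ((chevG2.cartanSR.getD (1 : Fin 2).val #[]).getD 11 0 : ℤ) = 1 := by decide
  rw [this, Int.cast_one, neg_mul, one_mul]

theorem g23 [Fintype F] (hF : Fintype.card F = 3) : ∃ U : Subgroup ↥(chevG2.group F),
    Nat.card U = 729 ∧ 3 < Nat.card ↥(U ⊓ Subgroup.centralizer (U : Set ↥(chevG2.group F))) := by
  have h3 : ((3 : ℕ) : F) = 0 := by
    have := FiniteField.cast_card_eq_zero F
    rwa [hF] at this
  have hle := posUnipotent_le_group hG2 F
  have : Finite ↥(chevG2.group F) := Subtype.finite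
  have hcard : Nat.card ↥((chevG2.posUnipotent F).subgroupOf (chevG2.group F)) = 729 := by
    rw [Nat.card_congr (Subgroup.subgroupOfEquivOfLe hle).toEquiv, S1027.result chevG2 hG2, hF]
    rfl
  have hcl : ∀ g : GL chevG2.Idx F, (∀ r ∈ [6, 7, 8, 9, 10, 11], ∀ t : F,
      (chevG2.x F r t) * (g : Matrix chevG2.Idx chevG2.Idx F) = (g : Matrix chevG2.Idx chevG2.Idx F) * (chevG2.x F r t)) →
      ∀ u ∈ chevG2.posUnipotent F, u * g = g * u := by
    intro g hg u hu
    have h1 : g ∈ Subgroup.centralizer ((chevG2.posUnipotent F : Subgroup (GL chevG2.Idx F)) : Set (GL chevG2.Idx F)) := by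
      unfold ChevalleyDatum.posUnipotent
      rw [Subgroup.centralizer_closure, Subgroup.mem_centralizer_iff]
      rintro v ⟨r, t, hr, hv⟩
      apply Units.ext
      rw [Units.val_mul, Units.val_mul, hv]
      exact hg r (posRoot_iff hr) t
    exact Subgroup.mem_centralizer_iff.1 h1 u hu
  have hpos9 : chevG2.IsPosRoot 9 := by decide
  have hpos11 : chevG2.IsPosRoot 11 := by decide
  let a : ↥(chevG2.group F) := ⟨xG hG2 9 1, xG_mem_group hG2 9 1⟩
  let b : ↥(chevG2.group F) := ⟨xG hG2 11 1, xG_mem_group hG2 11 1⟩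
  have ha : a ∈ (chevG2.posUnipotent F).subgroupOf (chevG2.group F) ⊓
      Subgroup.centralizer (((chevG2.posUnipotent F).subgroupOf (chevG2.group F) : Subgroup _) : Set ↥(chevG2.group F)) := by
    refine ⟨xG_mem_posUnipotent hG2 hpos9 1, Subgroup.mem_centralizer_iff.2 fun u hu => Subtype.ext ?_⟩
    exact hcl (xG hG2 9 1) (fun r hr t => comm9 h3 hr t 1) u hu
  have hb : b ∈ (chevG2.posUnipotent F).subgroupOf (chevG2.group F) ⊓
      Subgroup.centralizer (((chevG2.posUnipotent F).subgroupOf (chevG2.group F) : Subgroup _) : Set ↥(chevG2.group F)) := by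
    refine ⟨xG_mem_posUnipotent hG2 hpos11 1, Subgroup.mem_centralizer_iff.2 fun u hu => Subtype.ext ?_⟩
    exact hcl (xG hG2 11 1) (fun r hr t => comm11 h3 hr t 1) u hu
  refine ⟨_, hcard, three_lt_card ha hb ?_ ?_ ?_ ?_⟩
  · intro h
    have h1 : chevG2.x F 9 1 = 1 := congrArg (fun g : ↥(chevG2.group F) => ((g : GL chevG2.Idx F) : Matrix chevG2.Idx chevG2.Idx F)) h
    have h2 := entry99 (1 : F)
    rw [h1, Matrix.one_apply_ne (by simp)] at h2
    exact one_ne_zero (neg_eq_zero.1 h2.symm)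
  · intro h
    have h1 : chevG2.x F 11 1 = 1 := congrArg (fun g : ↥(chevG2.group F) => ((g : GL chevG2.Idx F) : Matrix chevG2.Idx chevG2.Idx F)) h
    have h2 := entry1111 (1 : F)
    rw [h1, Matrix.one_apply_ne (by simp)] at h2
    exact one_ne_zero (neg_eq_zero.1 h2.symm)
  · intro h
    have h1 : chevG2.x F 9 1 = chevG2.x F 11 1 := congrArg (fun g : ↥(chevG2.group F) => ((g : GL chevG2.Idx F) : Matrix chevG2.Idx chevG2.Idx F)) h
    have h2 := entry99 (1 : F)
    rw [h1, entry119] at h2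
    exact one_ne_zero (neg_eq_zero.1 h2.symm)
  · intro h
    have h1 : chevG2.x F 9 1 * chevG2.x F 11 1 = 1 :=
      congrArg (fun g : ↥(chevG2.group F) => ((g : GL chevG2.Idx F) : Matrix chevG2.Idx chevG2.Idx F)) h
    have h4 : chevG2.x F 9 (-1) * (chevG2.x F 9 1 * chevG2.x F 11 1) = chevG2.x F 11 1 := by
      rw [← mul_assoc, X_add (by norm_num), neg_add_cancel, X_zero (by norm_num), one_mul]
    rw [h1, mul_one] at h4
    have h2 := entry99 (-1 : F)
    rw [h4, entry119] at h2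
    rw [neg_neg] at h2
    exact one_ne_zero h2.symm

end G2

universe u

/-- **The elimination.** -/
theorem elim' {S : Type u} [Group S] (T : OrderTable.{u}) (h : IsKnownSimple' S) (hS : El S) : Real (.psl 4 3) S := by
  rcases elim T h hS with h1 | h1 | h1
  · exfalso
    obtain ⟨F, _, _, hF, ⟨e⟩⟩ := h1
    obtain ⟨U, hU, hU'⟩ := l39 hF
    have := (hS.congr e).cen U hU
    omega
  · exact h1
  · exfalso
    obtain ⟨F, _, _, hF, ⟨e⟩⟩ := h1
    obtain ⟨U, hU, hU'⟩ := g23 hF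
    have := (hS.congr e).cen U hU
    omega

theorem psl43 {S : Type u} [Group S] (h : Real (.psl 4 3) S) :
    Nonempty (S ≃* ProjectiveSpecialLinearGroup (Fin 4) (ZMod 3)) := by
  obtain ⟨F, _, _, hF, ⟨e⟩⟩ := h
  exact ⟨e.trans (SporadicA.FieldFour.pslCongr (ZMod.ringEquivOfPrime F Nat.prime_three hF).symm)⟩

end Cfsg.Agent.H352.Elim
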